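import Mathlib
import Groth.Agent.Lib.Lead.QC.Stalk
import Groth.Agent.Lib.Lead.QC.Support
import Groth.Agent.Lib.Lead.QC.InvBasis
import Groth.Agent.Lib.Lead.QC.InvIntegral

set_option autoImplicit false
universe u
open CategoryTheory Limits Opposite AlgebraicGeometry TopologicalSpace

namespace Groth.Agent.H5.ChowStalk

/-- if `π` is an isomorphism over `X₀`, then `π.app W` is bijective for `W ≤ X₀`. -/
theorem app_bijective_of_isIso_morphismRestrict {Z Z' : Scheme.{u}} (π : Z' ⟶ Z) (X₀ : Z.Opens)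
    [IsIso (π ∣_ X₀)] (W : Z.Opens) (hW : W ≤ X₀) : Function.Bijective (π.app W) := by
  let j := (π ⁻¹ᵁ X₀).ι
  let g := π ∣_ X₀ ≫ X₀.ι
  have hfac : g = j ≫ π := morphismRestrict_ι π X₀
  have hr : g.opensRange = X₀ := by
    rw [Scheme.Hom.opensRange_comp_of_isIso, Scheme.Opens.opensRange_ι]
  have h1 : IsIso (g.app W) := Scheme.Hom.isIso_app g W (hr.symm ▸ hW)
  have h2 : IsIso ((j ≫ π).app W) := by
    have := Scheme.Hom.congr_app hfac.symm W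
    rw [this]
    infer_instance
  have h3 : IsIso (j.app (π ⁻¹ᵁ W)) := by
    apply Scheme.Hom.isIso_app
    rw [Scheme.Opens.opensRange_ι]
    exact π.preimage_mono hW
  have h4 : (j ≫ π).app W = π.app W ≫ j.app (π ⁻¹ᵁ W) := Scheme.Hom.comp_app j π W
  have h2' : IsIso (π.app W ≫ j.app (π ⁻¹ᵁ W)) := h4 ▸ h2
  have h5 : IsIso (π.app W) := @IsIso.of_isIso_comp_right _ _ _ _ _ (π.app W) (j.app (π ⁻¹ᵁ W)) h3 h2'
  exact (ConcreteCategory.isIso_iff_bijective (π.app W)).mp h5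

/-- shrinking: an open neighbourhood of a point of `π⁻¹X₀` contains the full preimage of a
neighbourhood of its image. -/
theorem exists_nbhd {Z Z' : Scheme.{u}} (π : Z' ⟶ Z) (X₀ : Z.Opens) [IsIso (π ∣_ X₀)] (z' : Z')
    (hz' : π z' ∈ X₀) (V₁ : Z'.Opens) (hV₁ : z' ∈ V₁) :
    ∃ X₁ : Z.Opens, X₁ ≤ X₀ ∧ π z' ∈ X₁ ∧ π ⁻¹ᵁ X₁ ≤ V₁ := by
  let ρ := π ∣_ X₀
  have hinj : Function.Injective ρ := (ρ.homeomorph).injective
  refine ⟨X₀.ι ''ᵁ (ρ ''ᵁ ((π ⁻¹ᵁ X₀).ι ⁻¹ᵁ V₁)), X₀.ι_image_le _, ?_, ?_⟩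
  · refine ⟨ρ ⟨z', hz'⟩, ⟨⟨z', hz'⟩, hV₁, rfl⟩, ?_⟩
    exact morphismRestrict_base_coe π X₀ ⟨z', hz'⟩
  · rintro z'' ⟨w₀, ⟨w, hw, rfl⟩, hw₀⟩
    have hz'' : π z'' ∈ X₀ := by
      have : π z'' = (ρ w).1 := hw₀.symm
      rw [this]; exact (ρ w).2
    have h1 : ρ ⟨z'', hz''⟩ = ρ w := by
      apply Subtype.ext
      rw [morphismRestrict_base_coe]
      exact hw₀.symm
    have h2 := hinj h1
    have h3 : z'' = w.1 := congrArg Subtype.val h2
    change z'' ∈ V₁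
    rw [h3]
    exact hw

/-- points of `X₀` lift. -/
theorem exists_lift {Z Z' : Scheme.{u}} (π : Z' ⟶ Z) (X₀ : Z.Opens) [IsIso (π ∣_ X₀)] (z : Z)
    (hz : z ∈ X₀) : ∃ z' : Z', π z' = z := by
  let ρ := π ∣_ X₀
  obtain ⟨w, hw⟩ := (ρ.homeomorph).surjective ⟨z, hz⟩
  refine ⟨w.1, ?_⟩
  rw [← morphismRestrict_base_coe π X₀ w]
  exact congrArg Subtype.val hw

/-- on an integral scheme, a section over an open containing the generic point vanishes iff the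
generic point is not in its basic open. -/
theorem genericPoint_mem_basicOpen_iff {Z : Scheme.{u}} [IsIntegral Z] {W : Z.Opens}
    (b : Γ(Z, W)) : genericPoint Z ∈ Z.basicOpen b ↔ b ≠ 0 := by
  have h1 : genericPoint Z ∈ Z.basicOpen b ↔ (Set.univ ∩ (Z.basicOpen b : Set Z)).Nonempty :=
    (genericPoint_spec Z).mem_open_set_iff (Z.basicOpen b).2
  rw [h1, Set.univ_inter, Ne, ← basicOpen_eq_bot_iff b, Set.nonempty_iff_ne_empty, Ne,
    ← Opens.coe_bot (α := Z), SetLike.coe_set_eq]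

end Groth.Agent.H5.ChowStalk
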