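import Mathlib
import Groth.Agent.Lib.Lead.QC.Stalk
import Groth.Agent.Lib.Lead.QC.Support
import Groth.Agent.Lib.Lead.QC.InvBasis
import Groth.Agent.Lib.Lead.QC.InvIntegral

set_option autoImplicit false
universe u
open CategoryTheory Limits Opposite AlgebraicGeometry TopologicalSpace

namespace Groth.Agent.H5.ChowStalk

/-- abstract form: a localisation of a cyclic module `A/𝔭` at `𝔭` is simple over the local ring. -/
theorem isSimpleModule_of_isLocalizedModule {A R M N : Type*} [CommRing A] [CommRing R]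
    [AddCommGroup M] [Module A M] [AddCommGroup N] [Module R N] (ι : A →+* R) (S : Submonoid A)
    (hS : ∀ s ∈ S, IsUnit (ι s)) [Module A N] (hsm : ∀ (a : A) (n : N), a • n = ι a • n)
    (g : M →ₗ[A] N) [IsLocalizedModule S g] (e : M) (hgen : ∀ m : M, ∃ a : A, m = a • e)
    (hker : ∀ a : A, a • e = 0 → a ∉ S) (hker' : ∀ a : A, a ∉ S → a • e = 0) :
    IsSimpleModule R N := by
  have hge : g e ≠ 0 := by
    intro h0
    obtain ⟨s, hs⟩ := (IsLocalizedModule.eq_zero_iff S g).mp h0
    exact hker s.1 hs s.2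
  -- every element is a multiple of `g e`
  have hall : ∀ y : N, ∃ r : R, y = r • g e := by
    intro y
    obtain ⟨⟨m, t⟩, ht⟩ := IsLocalizedModule.surj S g y
    obtain ⟨b, rfl⟩ := hgen m
    obtain ⟨u, hu⟩ := hS t.1 t.2
    refine ⟨↑u⁻¹ * ι b, ?_⟩
    have h1 : ι t.1 • y = ι b • g e := by
      have : t • y = g (b • e) := ht
      rw [map_smul, hsm] at this
      rw [← this]
      exact (hsm t.1 y).symm
    rw [mul_smul, ← h1, ← hu, smul_smul, Units.inv_mul, one_smul]
  -- a nonzero element generates `g e`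
  have hback : ∀ x : N, x ≠ 0 → ∃ r : R, g e = r • x := by
    intro x hx
    obtain ⟨⟨m, t⟩, ht⟩ := IsLocalizedModule.surj S g x
    obtain ⟨a, rfl⟩ := hgen m
    have haS : a ∈ S := by
      by_contra hcon
      have h0 : t • x = 0 := by
        have : t • x = g (a • e) := ht
        rw [this, hker' a hcon, map_zero]
      obtain ⟨u, hu⟩ := hS t.1 t.2
      have h1 : ι t.1 • x = 0 := (hsm t.1 x).symm.trans h0
      apply hx
      have := congrArg (fun z => (↑u⁻¹ : R) • z) h1
      simpa [← hu, smul_smul] using this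
    obtain ⟨v, hv⟩ := hS a haS
    refine ⟨↑v⁻¹ * ι t.1, ?_⟩
    have h1 : ι t.1 • x = ι a • g e := by
      have : t • x = g (a • e) := ht
      rw [map_smul, hsm] at this
      rw [← this]
      exact (hsm t.1 x).symm
    rw [mul_smul, h1, ← hv, smul_smul, Units.inv_mul, one_smul]
  haveI : Nontrivial N := ⟨⟨g e, 0, hge⟩⟩
  rw [isSimpleModule_iff_toSpanSingleton_surjective]
  refine ⟨inferInstance, fun x hx y => ?_⟩
  obtain ⟨r, hr⟩ := hback x hx
  obtain ⟨r', hr'⟩ := hall y
  refine ⟨r' * r, ?_⟩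
  rw [LinearMap.toSpanSingleton_apply, mul_smul, ← hr, ← hr']

end Groth.Agent.H5.ChowStalk
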