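import Mathlib
import Groth.Agent.Lib.Lead.QC.Stalk
import Groth.Agent.Lib.Lead.QC.Support
import Groth.Agent.Lib.Lead.QC.InvBasis
import Groth.Agent.Lib.Lead.QC.InvIntegral
import Groth.Agent.Lib.Lead.QC.LocFree
import Groth.Prelude.Def_FlatMod2
import Groth.Agent.Lib.Helper5.ChowStalk.A
import Groth.Agent.Lib.Helper5.ChowStalk.B

set_option autoImplicit false
universe u
open CategoryTheory Limits Opposite AlgebraicGeometry TopologicalSpace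

namespace Groth.Agent.H5.ChowStalk
open Groth.Agent.LD.QC

variable {X Z Z' : Scheme.{u}} (i : Z ⟶ X) [IsClosedImmersion i] [IsIntegral Z] (π : Z' ⟶ Z)
  (X₀ : Z.Opens)

theorem genericPoint_mem (hX₀ : (X₀ : Set Z).Nonempty) : genericPoint Z ∈ X₀ := by
  have h1 : genericPoint Z ∈ X₀ ↔ (Set.univ ∩ (X₀ : Set Z)).Nonempty :=
    (genericPoint_spec Z).mem_open_set_iff X₀.2
  rw [h1, Set.univ_inter]
  exact hX₀

theorem exists_good (hX₀ : (X₀ : Set Z).Nonempty) [IsIso (π ∣_ X₀)] (L : Z'.Modules)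
    (hL : PicF.IsInvertible L) :
    ∃ (U : X.Opens) (_ : IsAffineOpen U) (_ : i (genericPoint Z) ∈ U)
      (e : Γ(L, π ⁻¹ᵁ (i ⁻¹ᵁ U))), i ⁻¹ᵁ U ≤ X₀ ∧ IsBasisOver L (π ⁻¹ᵁ (i ⁻¹ᵁ U)) e := by
  have hη := genericPoint_mem X₀ hX₀
  obtain ⟨η', hη'⟩ := exists_lift π X₀ (genericPoint Z) hη
  obtain ⟨V₁, e₁, hη'V₁, he₁⟩ := (isInvertible_iff_exists_isBasisOver L).mp hL η'
  obtain ⟨X₁, hX₁, hηX₁, hpre⟩ := exists_nbhd π X₀ η' (hη'.symm ▸ hη) V₁ hη'V₁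
  obtain ⟨O, hO, hOX₁⟩ := i.isEmbedding.isInducing.isOpen_iff.mp X₁.2
  have hξO : i (genericPoint Z) ∈ O := by
    have : genericPoint Z ∈ i ⁻¹' O := by rw [hOX₁, ← hη']; exact hηX₁
    exact this
  obtain ⟨_, ⟨U, hU, rfl⟩, hξU, hUO⟩ :=
    (X.isBasis_affineOpens).exists_subset_of_mem_open hξO hO
  have hiU : i ⁻¹ᵁ U ≤ X₁ := by
    intro z hz
    have : z ∈ i ⁻¹' O := hUO hz
    rw [hOX₁] at this
    exact this
  have hV : π ⁻¹ᵁ (i ⁻¹ᵁ U) ≤ V₁ := (π.preimage_mono hiU).trans hpre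
  exact ⟨U, hU, hξU, L.presheaf.map (homOfLE hV).op e₁, hiU.trans hX₁, he₁.mono hV⟩

end Groth.Agent.H5.ChowStalk
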