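import Mathlib
import Groth.Agent.Lib.Helper5.ChowStalk.C

set_option autoImplicit false
universe u
open CategoryTheory Limits Opposite AlgebraicGeometry TopologicalSpace

namespace Groth.Agent.H5.ChowStalk
open Groth.Agent.LD.QC

variable {X Z Z' : Scheme.{u}} (i : Z ⟶ X) [IsClosedImmersion i] [IsIntegral Z] (π : Z' ⟶ Z)
  (X₀ : Z.Opens)

theorem isSimpleModule_stalk_push_push (hX₀ : (X₀ : Set Z).Nonempty) (hπ : IsIso (π ∣_ X₀))
    (L : Z'.Modules) (hL : PicF.IsInvertible L)
    (hG : Coh.IsCoh ((Scheme.Modules.pushforward i).obj ((Scheme.Modules.pushforward π).obj L))) :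
    IsSimpleModule (X.presheaf.stalk (i (genericPoint Z)))
      ↑(((Scheme.Modules.pushforward i).obj
        ((Scheme.Modules.pushforward π).obj L)).presheaf.stalk (i (genericPoint Z))) := by
  haveI := hπ
  set G := (Scheme.Modules.pushforward i).obj ((Scheme.Modules.pushforward π).obj L) with hGdef
  haveI : G.IsQuasicoherent := hG.1
  obtain ⟨U, hU, hξ, e, hUX₀, he⟩ := exists_good i π X₀ hX₀ L hL
  set ξ := i (genericPoint Z) with hξdef
  letI := stalkΓModule G ξ U hξ
  haveI := isLocalizedModule_germ G hU ξ hξ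
  let W := i ⁻¹ᵁ U
  let V := π ⁻¹ᵁ W
  have hφ : Function.Surjective (i.app U) := i.app_surjective U hU
  have hψ : Function.Bijective (π.app W) := app_bijective_of_isIso_morphismRestrict π X₀ W hUX₀
  have hsm : ∀ (a : Γ(X, U)) (m : Γ(G, U)),
      a • m = (show Γ(G, U) from (π.app W (i.app U a)) • (show Γ(L, V) from m)) := fun a m => rfl
  have hzero : ∀ a : Γ(X, U),
      i.app U a = 0 ↔ a ∉ (hU.primeIdealOf ⟨ξ, hξ⟩).asIdeal.primeCompl := by
    intro a
    have h1 : ξ ∈ X.basicOpen a ↔ i.app U a ≠ 0 := by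
      rw [← genericPoint_mem_basicOpen_iff, ← Scheme.preimage_basicOpen]; rfl
    constructor
    · intro h0 hmem
      exact (h1.mp (mem_basicOpen_of_mem_primeCompl hU ξ hξ a hmem)) h0
    · intro hn
      by_contra h0
      exact hn (mem_primeCompl_of_mem_basicOpen hU ξ hξ a (h1.mpr h0))
  refine isSimpleModule_of_isLocalizedModule (X.presheaf.germ U ξ hξ).hom
    (hU.primeIdealOf ⟨ξ, hξ⟩).asIdeal.primeCompl (fun s hs => isUnit_germ_of_notMem hU ξ hξ s hs)
    (fun a n => rfl) (germLinear G ξ U hξ) (show Γ(G, U) from e) ?_ ?_ ?_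
  · intro m
    obtain ⟨c, hc⟩ := he.self_smul (show Γ(L, V) from m)
    obtain ⟨b, rfl⟩ := hψ.2 c
    obtain ⟨a, rfl⟩ := hφ b
    exact ⟨a, hc.symm⟩
  · intro a ha
    have h1 : π.app W (i.app U a) = 0 := by
      apply he.coeff_eq_zero le_rfl
      rw [res_self]
      exact ha
    have h2 : i.app U a = 0 := hψ.1 (h1.trans (map_zero _).symm)
    exact (hzero a).mp h2
  · intro a ha
    have h2 := (hzero a).mpr ha
    rw [hsm, h2, map_zero, zero_smul]
    rfl

end Groth.Agent.H5.ChowStalk
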