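import Mathlib
import Groth.Agent.Lib.Helper5.ChowStalk.D
import Groth.Agent.Lib.Lead.QC.Iso

set_option autoImplicit false
universe u
open CategoryTheory Limits Opposite AlgebraicGeometry TopologicalSpace

namespace Groth.Agent.H5.ChowStalk
open Groth.Agent.LD.QC

/-- the stalks of a direct image vanish outside the closure... here: outside the (closed) range. -/
theorem subsingleton_stalk_pushforward_of_notMem {X Y : Scheme.{u}} (f : Y ⟶ X) (F : Y.Modules)
    (x : X) (hx : x ∉ closure (Set.range f)) :
    Subsingleton (((Scheme.Modules.pushforward f).obj F).presheaf.stalk x) := by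
  set G := (Scheme.Modules.pushforward f).obj F
  let O : X.Opens := ⟨(closure (Set.range f))ᶜ, isClosed_closure.isOpen_compl⟩
  suffices h : ∀ g : G.presheaf.stalk x, g = 0 from ⟨fun a b => by rw [h a, h b]⟩
  intro g
  obtain ⟨V, hxV, m, rfl⟩ := TopCat.Presheaf.germ_exist G.presheaf g
  have hxVO : x ∈ V ⊓ O := ⟨hxV, hx⟩
  rw [← germ_res G x (inf_le_left : V ⊓ O ≤ V) hxVO m]
  have h0 : G.presheaf.map (homOfLE (inf_le_left : V ⊓ O ≤ V)).op m = 0 := by
    apply section_eq_zero_of_germ F
      (show Γ(F, f ⁻¹ᵁ (V ⊓ O)) from G.presheaf.map (homOfLE (inf_le_left : V ⊓ O ≤ V)).op m)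
    intro y hy
    have hy2 : f y ∈ (closure (Set.range f))ᶜ := hy.2
    exact absurd (subset_closure (Set.mem_range_self y)) hy2
  rw [h0, map_zero]

variable {X Z Z' : Scheme.{u}} (i : Z ⟶ X) [IsClosedImmersion i] [IsIntegral Z] (π : Z' ⟶ Z)
  (X₀ : Z.Opens)

theorem support_push_push (hX₀ : (X₀ : Set Z).Nonempty) (hπ : IsIso (π ∣_ X₀))
    (L : Z'.Modules) (hL : PicF.IsInvertible L)
    (hG : Coh.IsCoh ((Scheme.Modules.pushforward i).obj ((Scheme.Modules.pushforward π).obj L))) :
    CohB1.support ((Scheme.Modules.pushforward i).obj ((Scheme.Modules.pushforward π).obj L)) =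
      Set.range ⇑i := by
  set G := (Scheme.Modules.pushforward i).obj ((Scheme.Modules.pushforward π).obj L) with hGdef
  have hcl : Topology.IsClosedEmbedding i := i.isClosedEmbedding
  apply Set.Subset.antisymm
  · intro x hx
    by_contra hxi
    apply hx
    apply subsingleton_stalk_pushforward_of_notMem i _ x
    rwa [hcl.isClosed_range.closure_eq]
  · have hsimple := isSimpleModule_stalk_push_push i π X₀ hX₀ hπ L hL hG
    have hξ : i (genericPoint Z) ∈ CohB1.support G := by
      change ¬ Subsingleton _
      rw [not_subsingleton_iff_nontrivial]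
      exact IsSimpleModule.nontrivial (X.presheaf.stalk (i (genericPoint Z))) _
    have hclosed : IsClosed (CohB1.support G) := isClosed_support_of_isFiniteType G hG.2
    have h1 : closure ({genericPoint Z} : Set Z) = Set.univ := (genericPoint_spec Z).def
    have h2 := hcl.closure_image_eq ({genericPoint Z} : Set Z)
    rw [Set.image_singleton, h1, Set.image_univ] at h2
    rw [← h2]
    exact hclosed.closure_subset_iff.mpr (Set.singleton_subset_iff.mpr hξ)

end Groth.Agent.H5.ChowStalk
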